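import Mathlib

/-!
# Arithmetic of the Kawanaka scalars of the characters of `³D₄(q)` which do not vanish on the torus of order
`q ^ 4 - q ^ 2 + 1` (S2452, helper443)

`D₃, D₄, D_E` : signed degrees of the two nonexceptional characters `≠ 1, St` and of the exceptional family,
`(-q^6)^j` their Kawanaka scalars.  Then `j₃ + j₄ + 4 = 4 j_E`, and if no exponent is `4` (only the trivial character has
exponent `4`), `j_E = 2`.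
-/

set_option autoImplicit false

namespace Cfsg.Agent.H443.TD

/-- `(Y ^ j - Y ^ 2) / (Y - 1)` for `j ≤ 4` -/
def cj (Y : ℤ) : ℕ → ℤ
  | 0 => -(Y + 1)
  | 1 => -Y
  | 2 => 0
  | 3 => Y ^ 2
  | _ => Y ^ 2 * (Y + 1)

theorem cj_mul (Y : ℤ) {j : ℕ} (hj : j ≤ 4) : (Y - 1) * cj Y j = Y ^ j - Y ^ 2 := by
  interval_cases j <;> simp only [cj] <;> ring

theorem cj_modEq {Y n : ℤ} (h : Y ≡ 1 [ZMOD n]) {j : ℕ} (hj : j ≤ 4) : cj Y j ≡ (j : ℤ) - 2 [ZMOD n] := by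
  interval_cases j <;> simp only [cj]
  · exact ((h.add_right 1).neg).trans (by norm_num)
  · exact h.neg.trans (by norm_num)
  · norm_num
  · exact (h.pow 2).trans (by norm_num)
  · exact ((h.pow 2).mul (h.add_right 1)).trans (by norm_num)

theorem ari {q : ℕ} (hq : 2 ≤ q) {D₃ D₄ E : ℤ} {j₃ j₄ k : ℕ} (hj₃ : j₃ ≤ 4) (hj₄ : j₄ ≤ 4) (hk : k ≤ 4)
    (h₃ : D₃ ≡ 1 [ZMOD (q : ℤ) ^ 4 - q ^ 2 + 1]) (h₄ : D₄ ≡ 1 [ZMOD (q : ℤ) ^ 4 - q ^ 2 + 1])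
    (hE : E ≡ 4 [ZMOD (q : ℤ) ^ 4 - q ^ 2 + 1])
    (hD : 1 + (q : ℤ) ^ 12 + D₃ + D₄ = E)
    (hK : (q : ℤ) ^ 24 + q ^ 12 + (-(q : ℤ) ^ 6) ^ j₃ * D₃ + (-(q : ℤ) ^ 6) ^ j₄ * D₄ = (-(q : ℤ) ^ 6) ^ k * E) :
    j₃ + j₄ + 4 = 4 * k := by
  set n : ℤ := (q : ℤ) ^ 4 - q ^ 2 + 1 with hn
  set Y : ℤ := -(q : ℤ) ^ 6 with hY
  have hq' : (2 : ℤ) ≤ q := by exact_mod_cast hq
  have hY1 : Y - 1 = -(n * ((q : ℤ) ^ 2 + 1)) := by rw [hY, hn]; ring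
  have hYn : Y ≡ 1 [ZMOD n] := by
    apply Int.ModEq.symm
    rw [Int.modEq_iff_dvd, hY1]
    exact (dvd_mul_right _ _).neg_right
  have hY0 : Y - 1 ≠ 0 := by
    have : 0 < (q : ℤ) ^ 6 := by positivity
    rw [hY]
    omega
  have h1 : (Y - 1) * (cj Y j₃ * D₃ + cj Y j₄ * D₄) = (Y - 1) * (cj Y k * E) := by
    have e3 := cj_mul Y hj₃
    have e4 := cj_mul Y hj₄
    have eE := cj_mul Y hk
    have hY2 : Y ^ 2 = (q : ℤ) ^ 12 := by rw [hY]; ring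
    have hD' : Y ^ 2 * (1 + (q : ℤ) ^ 12 + D₃ + D₄) = Y ^ 2 * E := by rw [hD]
    have : (Y - 1) * (cj Y j₃ * D₃ + cj Y j₄ * D₄) = ((Y - 1) * cj Y j₃) * D₃ + ((Y - 1) * cj Y j₄) * D₄ := by ring
    rw [this, e3, e4, ← mul_assoc, eE]
    have h24 : (q : ℤ) ^ 24 = Y ^ 2 * (q : ℤ) ^ 12 := by rw [hY2]; ring
    rw [h24, ← hY2] at hK
    rw [← hY2] at hD'
    linear_combination hK - hD'
  have h2 := mul_left_cancel₀ hY0 h1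
  have h3 : ((j₃ : ℤ) - 2) * 1 + ((j₄ : ℤ) - 2) * 1 ≡ ((k : ℤ) - 2) * 4 [ZMOD n] :=
    ((((cj_modEq hYn hj₃).mul h₃).add ((cj_modEq hYn hj₄).mul h₄)).symm.trans (h2 ▸ Int.ModEq.refl _)).trans
      ((cj_modEq hYn hk).mul hE)
  have h4 : n ∣ ((j₃ : ℤ) + j₄ + 4 - 4 * k) := by
    have h5 := h3.symm.dvd
    convert h5 using 1
    ring
  have hn13 : 13 ≤ n := by
    rw [hn]
    nlinarith [mul_self_nonneg ((q : ℤ) ^ 2 - 4), sq_nonneg ((q : ℤ) - 2)]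
  have h5 : (j₃ : ℤ) + j₄ + 4 - 4 * k = 0 := by
    apply Int.eq_zero_of_abs_lt_dvd h4
    rw [abs_lt]
    constructor <;> omega
  omega

/-- **The exponents.** -/
theorem ari_two {q : ℕ} (hq : 2 ≤ q) {D₃ D₄ E : ℤ} {j₃ j₄ k : ℕ} (hj₃ : j₃ ≤ 3) (hj₄ : j₄ ≤ 3) (hk : k ≤ 3)
    (h₃ : D₃ ≡ 1 [ZMOD (q : ℤ) ^ 4 - q ^ 2 + 1]) (h₄ : D₄ ≡ 1 [ZMOD (q : ℤ) ^ 4 - q ^ 2 + 1])
    (hE : E ≡ 4 [ZMOD (q : ℤ) ^ 4 - q ^ 2 + 1])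
    (hD : 1 + (q : ℤ) ^ 12 + D₃ + D₄ = E)
    (hK : (q : ℤ) ^ 24 + q ^ 12 + (-(q : ℤ) ^ 6) ^ j₃ * D₃ + (-(q : ℤ) ^ 6) ^ j₄ * D₄ = (-(q : ℤ) ^ 6) ^ k * E)
    (hdvd : E ∣ (q : ℤ) ^ 12 * ((q : ℤ) ^ 6 - 1) ^ 2 * ((q : ℤ) ^ 4 - q ^ 2 + 1)) :
    k = 2 ∧ j₃ + j₄ = 4 := by
  have h1 := ari hq (by omega) (by omega) (by omega) h₃ h₄ hE hD hK
  have h2 : k = 2 ∨ (k = 1 ∧ j₃ = 0 ∧ j₄ = 0) := by omega
  rcases h2 with h2 | ⟨rfl, rfl, rfl⟩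
  · omega
  exfalso
  have hq' : (2 : ℤ) ≤ q := by exact_mod_cast hq
  have h6 : (0 : ℤ) < 1 + (q : ℤ) ^ 6 := by positivity
  have hE' : E = (1 - (q : ℤ) ^ 6) * (1 + (q : ℤ) ^ 12) := by
    apply mul_left_cancel₀ h6.ne'
    rw [pow_zero, one_mul, one_mul, pow_one] at hK
    linear_combination hK - hD
  have h7 : (1 + (q : ℤ) ^ 12) * ((q : ℤ) ^ 6 - 1) ∣
      (q : ℤ) ^ 12 * (((q : ℤ) ^ 6 - 1) * ((q : ℤ) ^ 4 - q ^ 2 + 1)) * ((q : ℤ) ^ 6 - 1) := by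
    have e1 : (1 + (q : ℤ) ^ 12) * ((q : ℤ) ^ 6 - 1) = -E := by rw [hE']; ring
    rw [e1, neg_dvd]
    refine hdvd.trans (dvd_of_eq (by ring))
  have h60 : ((q : ℤ) ^ 6 - 1) ≠ 0 := by
    have : (2 : ℤ) ^ 6 ≤ (q : ℤ) ^ 6 := pow_le_pow_left₀ (by norm_num) hq' 6
    omega
  have h8 := (mul_dvd_mul_iff_right h60).1 h7
  have hco : IsCoprime (1 + (q : ℤ) ^ 12) ((q : ℤ) ^ 12) := ⟨1, -1, by ring⟩
  have h9 := hco.dvd_of_dvd_mul_left h8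
  have h10 := Int.le_of_dvd (by
    have : (2 : ℤ) ^ 6 ≤ (q : ℤ) ^ 6 := pow_le_pow_left₀ (by norm_num) hq' 6
    have h11 : (0 : ℤ) < (q : ℤ) ^ 4 - q ^ 2 + 1 := by nlinarith [sq_nonneg ((q : ℤ) ^ 2 - 1), sq_nonneg (q : ℤ)]
    exact mul_pos (by omega) h11) h9
  nlinarith [pow_pos (show (0 : ℤ) < q by omega) 6, pow_pos (show (0 : ℤ) < q by omega) 4,
    pow_pos (show (0 : ℤ) < q by omega) 8, pow_pos (show (0 : ℤ) < q by omega) 10, mul_self_nonneg ((q : ℤ) ^ 5),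
    pow_pos (show (0 : ℤ) < q by omega) 2, mul_pos (pow_pos (show (0 : ℤ) < q by omega) 10)
    (show (0 : ℤ) < (q : ℤ) ^ 2 - 1 by nlinarith)]

end Cfsg.Agent.H443.TD
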