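import Cfsg.Agent.Characters.Brauer

/-!
# A family of irreducible characters with a common linear constituent on a subgroup (helper443)

`family_bound` : if the distinct irreducible characters `E₁, …, E_s` have a common constituent `θ` on `B`, `θ` linear, then
`s ≤ ⟨1_B^G, 1_B^G⟩`.
-/

set_option autoImplicit false

open scoped ComplexConjugate

namespace Cfsg.Agent.H443.TD

open Cfsg Cfsg.Agent.Characters.Core Cfsg.Agent.Characters

universe u

variable {G : Type u} [Group G] [Fintype G]

theorem norm_indFun_le (B : Subgroup G) {θ : B → ℂ} (h1 : ∀ b, ‖θ b‖ ≤ 1) (g : G) :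
    ‖indFun B θ g‖ ≤ ‖indFun B (1 : B → ℂ) g‖ := by
  classical
  have h2 : ∀ x : G, extendByZero B (1 : B → ℂ) (x⁻¹ * g * x) =
      (((if x⁻¹ * g * x ∈ B then 1 else 0 : ℝ)) : ℂ) := by
    intro x
    split_ifs with h
    · rw [Core.extendByZero_of_mem B _ h]
      simp
    · rw [Core.extendByZero_of_notMem B _ h]
      simp
  rw [Core.indFun_apply, Core.indFun_apply, norm_mul, norm_mul]
  refine mul_le_mul_of_nonneg_left ?_ (norm_nonneg _)
  refine (norm_sum_le _ _).trans ?_
  simp only [h2]
  rw [← Complex.ofReal_sum, Complex.norm_real, Real.norm_of_nonneg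
    (Finset.sum_nonneg fun x _ => by split_ifs <;> norm_num)]
  refine Finset.sum_le_sum fun x _ => ?_
  split_ifs with h
  · rw [Core.extendByZero_of_mem B _ h]
    exact h1 _
  · rw [Core.extendByZero_of_notMem B _ h, norm_zero]

theorem classInner_self_re (f : G → ℂ) : (classInner f f).re = (Nat.card G : ℝ)⁻¹ * ∑ g, ‖f g‖ ^ 2 := by
  have h : classInner f f = (((Nat.card G : ℝ)⁻¹ * ∑ g, ‖f g‖ ^ 2 : ℝ) : ℂ) := by
    rw [Core.classInner_def]
    push_cast
    congr 1
    refine Finset.sum_congr rfl fun g _ => ?_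
    rw [Complex.mul_conj, Complex.normSq_eq_norm_sq]
    push_cast
    rfl
  rw [h, Complex.ofReal_re]

theorem norm_ind_le (B : Subgroup G) {θ : B → ℂ} (h1 : ∀ b, ‖θ b‖ ≤ 1) :
    (classInner (indFun B θ) (indFun B θ)).re ≤
      (classInner (indFun B (1 : B → ℂ)) (indFun B (1 : B → ℂ))).re := by
  rw [classInner_self_re, classInner_self_re]
  refine mul_le_mul_of_nonneg_left (Finset.sum_le_sum fun g _ => ?_) (by positivity)
  exact pow_le_pow_left₀ (norm_nonneg _) (norm_indFun_le B h1 g) 2

/-- **The bound.** -/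
theorem family_bound (B : Subgroup G) [hB : Fintype B] {θ : B → ℂ} (hθ : IsCharacter B θ) (h1 : ∀ b, ‖θ b‖ ≤ 1) {s : ℕ}
    {E : Fin s → IrrCharacter G} (hE : Function.Injective E)
    (hne : ∀ j, classInner θ (fun b : B => (E j : G → ℂ) b) ≠ 0) :
    (s : ℝ) ≤ (classInner (indFun B (1 : B → ℂ)) (indFun B (1 : B → ℂ))).re := by
  classical
  have hfin := finite_irr (G := G)
  have : Fintype (IrrCharacter G) := Fintype.ofFinite _
  refine le_trans ?_ (norm_ind_le B h1)
  have hcl := Brauer.indFun_isClassFunction B θ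
  rw [classInner_eq_sum hcl hcl, Complex.re_sum]
  have h2 : ∀ χ : IrrCharacter G, 0 ≤ (classInner (indFun B θ) (χ : G → ℂ) *
      conj (classInner (indFun B θ) (χ : G → ℂ))).re := by
    intro χ
    rw [Complex.mul_conj, Complex.ofReal_re]
    exact Complex.normSq_nonneg _
  calc (s : ℝ) = ∑ _j : Fin s, (1 : ℝ) := by simp
    _ ≤ ∑ j : Fin s, (classInner (indFun B θ) (E j : G → ℂ) *
          conj (classInner (indFun B θ) (E j : G → ℂ))).re := by
        refine Finset.sum_le_sum fun j _ => ?_
        have h3 := Brauer.classInner_indFun B hB θ (E j : G → ℂ) (isIrr_isClassFunction (E j).2)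
        have h4 : IsCharacter B (fun b : B => (E j : G → ℂ) b) :=
          isCharacter_comp B.subtype (isIrr_isCharacter (E j).2)
        obtain ⟨m, hm⟩ := classInner_isNat hθ h4
        have h5 : m ≠ 0 := by
          rintro rfl
          exact hne j (by rw [hm]; simp)
        rw [h3, hm]
        have h6 : (1 : ℝ) ≤ m := by exact_mod_cast Nat.one_le_iff_ne_zero.2 h5
        simp
        nlinarith
    _ = ∑ χ ∈ Finset.univ.map ⟨E, hE⟩, (classInner (indFun B θ) (χ : G → ℂ) *
          conj (classInner (indFun B θ) (χ : G → ℂ))).re := by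
        rw [Finset.sum_map]
        rfl
    _ ≤ _ := Finset.sum_le_sum_of_subset_of_nonneg (Finset.subset_univ _) fun χ _ _ => h2 χ

end Cfsg.Agent.H443.TD
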